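import Groth.Agent.PCHom.Basic
import Groth.Agent.DRingTorAmp.Restrict
import Groth.Agent.DRingTorAmp.RestrictPC
import Groth.Prelude.Def_DerCA

/-!
Relative pseudo-coherence: independence of the presentation.
-/

noncomputable section

universe u

open CategoryTheory

attribute [local instance] HasDerivedCategory.standard

set_option linter.style.haveILetI false

namespace Groth.Agent.DerCALib

variable {P Q A : Type u} [CommRing P] [CommRing Q] [CommRing A]

/-- Restriction of scalars along a composite. -/
theorem nonempty_restrictD_comp (f : P →+* Q) (g : Q →+* A) (h : P →+* A) (hh : h = g.comp f) (K : Dual.D A) :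
    Nonempty ((DRing.restrictD h).obj K ≅ (DRing.restrictD f).obj ((DRing.restrictD g).obj K)) :=
  let E := DerivedCategory.Q.objPreimage K
  let e : DRing.toD E ≅ K := DerivedCategory.Q.objObjPreimageIso K
  let η := ModuleCat.restrictScalarsComp'.{u} f g h hh
  ⟨(DRing.restrictD h).mapIso e.symm ≪≫ DRingTorAmp.restrictQIso h E ≪≫
    DerivedCategory.Q.mapIso (HomologicalComplex.Hom.isoOfComponents (C₂ := (DRing.restrictCx f).obj ((DRing.restrictCx g).obj E)) (fun n => η.app (E.X n))
      (fun a b _ => (η.hom.naturality (E.d a b)).symm)) ≪≫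
    (DRingTorAmp.restrictQIso f _).symm ≪≫
    (DRing.restrictD f).mapIso ((DRingTorAmp.restrictQIso g E).symm ≪≫ (DRing.restrictD g).mapIso e)⟩

theorem pc_congr {R : Type u} [CommRing R] {K L : Dual.D R} (e : K ≅ L) (m : ℤ) :
    DRing.IsPseudoCoherent R m K ↔ DRing.IsPseudoCoherent R m L :=
  ⟨DRingKProj.isPseudoCoherent_of_iso e, DRingKProj.isPseudoCoherent_of_iso e.symm⟩

variable {R : Type u} [CommRing R] [Algebra R A]

/-- Pseudo-coherence along a composite through a flat finitely presented quotient of a polynomial ring. -/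
theorem pc_restrict_comp_iff {N : ℕ} [Algebra R Q] [Module.Flat R Q] [Algebra.FinitePresentation R Q]
    (π : MvPolynomial (Fin N) R →ₐ[R] Q) (hπ : Function.Surjective π) (φ : Q →ₐ[R] A)
    (χ : MvPolynomial (Fin N) R →ₐ[R] A) (h : φ.comp π = χ) (m : ℤ) (K : Dual.D A) :
    DRing.IsPseudoCoherent Q m ((DRing.restrictD (φ : Q →+* A)).obj K) ↔
      DerCA.IsRelPseudoCoherentVia χ m K := by
  obtain ⟨e⟩ := nonempty_restrictD_comp π.toRingHom (φ : Q →+* A) (χ : MvPolynomial (Fin N) R →+* A)
    (by rw [← h]; rfl) K
  exact (DRingTorAmp.isPseudoCoherent_restrict_iff π.toRingHom (PCHom.pc_of_flat_quotient Q π hπ) m _).trans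
    (pc_congr e.symm m)

/-- Relative pseudo-coherence does not depend on the presentation. -/
theorem via_iff {n k : ℕ} (α : MvPolynomial (Fin n) R →ₐ[R] A) (hα : Function.Surjective α)
    (β : MvPolynomial (Fin k) R →ₐ[R] A) (hβ : Function.Surjective β) (K : Dual.D A) (m : ℤ) :
    DerCA.IsRelPseudoCoherentVia α m K ↔ DerCA.IsRelPseudoCoherentVia β m K := by
  choose q hq using fun j => hα (β (MvPolynomial.X j))
  choose r hr using fun i => hβ (α (MvPolynomial.X i))
  let χ := MvPolynomial.aeval (R := R) (Fin.append (fun i => α (MvPolynomial.X i)) fun j => β (MvPolynomial.X j))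
  let π := MvPolynomial.aeval (R := R) (Fin.append (MvPolynomial.X : Fin n → _) q)
  let π' := MvPolynomial.aeval (R := R) (Fin.append r (MvPolynomial.X : Fin k → _))
  have h1 : α.comp π = χ := by
    refine MvPolynomial.algHom_ext fun i => ?_
    show α (π (MvPolynomial.X i)) = _
    rw [MvPolynomial.aeval_X, MvPolynomial.aeval_X]
    refine Fin.addCases (fun i => ?_) (fun j => ?_) i
    · rw [Fin.append_left, Fin.append_left]
    · rw [Fin.append_right, Fin.append_right, hq]
  have h2 : β.comp π' = χ := by
    refine MvPolynomial.algHom_ext fun i => ?_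
    show β (π' (MvPolynomial.X i)) = _
    rw [MvPolynomial.aeval_X, MvPolynomial.aeval_X]
    refine Fin.addCases (fun i => ?_) (fun j => ?_) i
    · rw [Fin.append_left, Fin.append_left, hr]
    · rw [Fin.append_right, Fin.append_right]
  have hπ' : Function.Surjective π' := fun x => ⟨MvPolynomial.rename (Fin.natAdd n) x, by
    rw [MvPolynomial.aeval_rename,
      show (Fin.append r (MvPolynomial.X : Fin k → _)) ∘ Fin.natAdd n = MvPolynomial.X from
        funext fun i => Fin.append_right _ _ i, MvPolynomial.aeval_X_left_apply]⟩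
  exact (pc_restrict_comp_iff π (PCHom.surjective_append q) α χ h1 m K).trans
    (pc_restrict_comp_iff π' hπ' β χ h2 m K).symm

/-- Any presentation may be used. -/
theorem relPC_iff {n : ℕ} (α : MvPolynomial (Fin n) R →ₐ[R] A) (hα : Function.Surjective α) (K : Dual.D A)
    (m : ℤ) : DerCA.IsRelPseudoCoherent R A m K ↔ DerCA.IsRelPseudoCoherentVia α m K :=
  ⟨fun ⟨_, β, hβ, h⟩ => (via_iff β hβ α hα K m).1 h, fun h => ⟨n, α, hα, h⟩⟩

theorem exists_presentation (R A : Type u) [CommRing R] [CommRing A] [Algebra R A] [Algebra.FiniteType R A] :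
    ∃ (n : ℕ) (α : MvPolynomial (Fin n) R →ₐ[R] A), Function.Surjective α :=
  Algebra.FiniteType.iff_quotient_mvPolynomial''.1 inferInstance

end Groth.Agent.DerCALib
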