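import Groth.Agent.DerCALib.RelPC
import Groth.Agent.S6935
import Groth.Agent.S6938
import Groth.Agent.S6939
import Mathlib.RingTheory.AdjoinRoot

/-!
Relative pseudo-coherence: modules, finite algebras, towers.
-/

noncomputable section

universe u

open CategoryTheory TensorProduct

attribute [local instance] HasDerivedCategory.standard

set_option linter.style.haveILetI false

namespace Groth.Agent.DerCALib

variable {R A : Type u} [CommRing R] [CommRing A] [Algebra R A]

/-- Restriction of a module placed in degree `0`. -/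
def restrictInDIso {P : Type u} [CommRing P] (g : P →+* A) (M : Type u) [AddCommGroup M] [Module A M] :
    (DRing.restrictD g).obj (Dual.inD A M) ≅ @Dual.inD P _ M _ (Module.compHom M g) :=
  ((ModuleCat.restrictScalars.{u} g).mapDerivedCategorySingleFunctor 0).app (ModuleCat.of A M)

/-- The relative notion for modules, along one presentation. -/
theorem relModule_iff {n : ℕ} (α : MvPolynomial (Fin n) R →ₐ[R] A) (hα : Function.Surjective α) (m : ℤ)
    (M : Type u) [AddCommGroup M] [Module A M] :
    DerCA.IsRelPseudoCoherentModule R A m M ↔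
      @DRing.IsPseudoCoherentModule (MvPolynomial (Fin n) R) _ m M _ (Module.compHom M α.toRingHom) :=
  (relPC_iff α hα _ m).trans (pc_congr (restrictInDIso (α : MvPolynomial (Fin n) R →+* A) M) m)

/-- Finiteness along a surjection. -/
theorem finite_compHom_iff {P : Type u} [CommRing P] (g : P →+* A) (hg : Function.Surjective g) (M : Type u)
    [AddCommGroup M] [Module A M] :
    @Module.Finite P M _ _ (Module.compHom M g) ↔ Module.Finite A M := by
  letI := g.toAlgebra
  letI : Module P M := Module.compHom M g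
  haveI : IsScalarTower P A M := ⟨fun p a x => mul_smul (g p) a x⟩
  haveI : Module.Finite P A := Module.Finite.of_surjective (Algebra.linearMap P A) hg
  exact ⟨fun h => Module.Finite.of_restrictScalars_finite P A M, fun h => Module.Finite.trans A M⟩

/-- A finite algebra is a quotient of a finite free algebra. -/
theorem exists_free_cover {P B : Type u} [CommRing P] [CommRing B] [Algebra P B] [Module.Finite P B] :
    ∃ (Q : Type u) (_ : CommRing Q) (_ : Algebra P Q) (_ : Module.Finite P Q) (_ : Module.Free P Q)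
      (ρ : Q →ₐ[P] B), Function.Surjective ρ := by
  classical
  suffices h : ∀ s : Finset B, ∃ (Q : Type u) (_ : CommRing Q) (_ : Algebra P Q) (_ : Module.Finite P Q)
      (_ : Module.Free P Q) (ρ : Q →ₐ[P] B), ∀ x ∈ s, x ∈ ρ.range by
    obtain ⟨s, hs⟩ := (Module.Finite.fg_top : (⊤ : Submodule P B).FG)
    obtain ⟨Q, _, _, _, _, ρ, hρ⟩ := h s
    refine ⟨Q, inferInstance, inferInstance, inferInstance, inferInstance, ρ, fun x => ?_⟩
    have hle : (⊤ : Submodule P B) ≤ Subalgebra.toSubmodule ρ.range := by
      rw [← hs, Submodule.span_le]; exact hρ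
    exact hle (Submodule.mem_top (x := x))
  intro s
  induction s using Finset.induction with
  | empty => exact ⟨P, inferInstance, inferInstance, inferInstance, inferInstance, Algebra.ofId P B, by simp⟩
  | @insert x s hx ih =>
    obtain ⟨Q, _, _, _, _, ρ, hρ⟩ := ih
    obtain ⟨g, hg, hgx⟩ := Algebra.IsIntegral.isIntegral (R := P) x
    haveI : Module.Free P (AdjoinRoot g) := hg.free_adjoinRoot
    haveI : Module.Finite P (AdjoinRoot g) := hg.finite_adjoinRoot
    let ρ₀ : AdjoinRoot g →ₐ[P] B := AdjoinRoot.liftAlgHom g (Algebra.ofId P B) x hgx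
    refine ⟨AdjoinRoot g ⊗[P] Q, inferInstance, inferInstance, inferInstance, inferInstance,
      Algebra.TensorProduct.productMap ρ₀ ρ, fun y hy => ?_⟩
    rcases Finset.mem_insert.mp hy with rfl | hy
    · refine ⟨AdjoinRoot.root g ⊗ₜ 1, ?_⟩
      show Algebra.TensorProduct.productMap ρ₀ ρ (AdjoinRoot.root g ⊗ₜ 1) = _
      rw [Algebra.TensorProduct.productMap_apply_tmul, map_one, mul_one]
      exact AdjoinRoot.liftAlgHom_root _ _ _ _
    · obtain ⟨b, hb⟩ := hρ y hy
      refine ⟨1 ⊗ₜ b, ?_⟩
      show Algebra.TensorProduct.productMap ρ₀ ρ (1 ⊗ₜ b) = _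
      rw [Algebra.TensorProduct.productMap_apply_tmul, map_one, one_mul]
      exact hb

/-- Finite free modules are pseudo-coherent. -/
theorem pcModule_of_free (P : Type u) [CommRing P] (M : Type u) [AddCommGroup M] [Module P M] [Module.Finite P M]
    [Module.Free P M] : DRing.IsPseudoCoherentModule' P M := by
  let E := (CochainComplex.singleFunctor (ModuleCat.{u} P) 0).obj (ModuleCat.of P M)
  refine ⟨E, 0, fun i hi => HomologicalComplex.isZero_single_obj_X _ _ _ _ (by omega), fun i => ?_,
    ⟨((DerivedCategory.singleFunctorIsoCompQ (ModuleCat.{u} P) 0).app (ModuleCat.of P M)).symm⟩⟩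
  by_cases hi : i = 0
  · subst hi
    let e := (HomologicalComplex.singleObjXSelf (ComplexShape.up ℤ) 0 (ModuleCat.of P M)).toLinearEquiv
    exact ⟨Module.Finite.equiv e.symm, Module.Free.of_equiv e.symm⟩
  · haveI hs : Subsingleton (E.X i) := ModuleCat.subsingleton_of_isZero
      (HomologicalComplex.isZero_single_obj_X (ComplexShape.up ℤ) 0 (ModuleCat.of P M) i hi)
    exact ⟨Module.Finite.of_fg_top ⟨∅, Subsingleton.elim _ _⟩, Module.Free.of_subsingleton P (E.X i)⟩

/-- Finite algebras: relative pseudo-coherence can be tested downstairs. -/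
theorem relPC_restrict_finite {B : Type u} [CommRing B] [Algebra A B] [Algebra R B] [IsScalarTower R A B]
    [Algebra.FiniteType R A] [Module.Finite A B] (K : Dual.D B) (m : ℤ) :
    DerCA.IsRelPseudoCoherent R B m K ↔
      DerCA.IsRelPseudoCoherent R A m ((DRing.restrictD (algebraMap A B)).obj K) := by
  obtain ⟨n, α, hα⟩ := exists_presentation R A
  letI := α.toRingHom.toAlgebra
  letI algB : Algebra (MvPolynomial (Fin n) R) B := ((algebraMap A B).comp α.toRingHom).toAlgebra
  haveI : IsScalarTower (MvPolynomial (Fin n) R) A B := IsScalarTower.of_algebraMap_eq fun _ => rfl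
  haveI : IsScalarTower R (MvPolynomial (Fin n) R) B := IsScalarTower.of_algebraMap_eq fun r => by
    show algebraMap R B r = algebraMap A B (α (algebraMap R _ r))
    rw [α.commutes, ← IsScalarTower.algebraMap_apply R A B]
  haveI : Module.Finite (MvPolynomial (Fin n) R) A :=
    Module.Finite.of_surjective (Algebra.linearMap (MvPolynomial (Fin n) R) A) hα
  haveI : Module.Finite (MvPolynomial (Fin n) R) B := Module.Finite.trans A B
  obtain ⟨Q, _, _, _, _, ρ, hρ⟩ := exists_free_cover (P := MvPolynomial (Fin n) R) (B := B)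
  letI : Algebra R Q := ((algebraMap (MvPolynomial (Fin n) R) Q).comp (algebraMap R (MvPolynomial (Fin n) R))).toAlgebra
  haveI : IsScalarTower R (MvPolynomial (Fin n) R) Q := IsScalarTower.of_algebraMap_eq fun _ => rfl
  haveI : Module.Flat R Q := Module.Flat.trans R (MvPolynomial (Fin n) R) Q
  haveI : Module.FinitePresentation (MvPolynomial (Fin n) R) Q :=
    Module.finitePresentation_of_projective _ _
  haveI : Algebra.FinitePresentation (MvPolynomial (Fin n) R) Q :=
    Algebra.FinitePresentation.of_finitePresentation _ _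
  haveI : Algebra.FinitePresentation R Q := Algebra.FinitePresentation.trans R (MvPolynomial (Fin n) R) Q
  obtain ⟨N, π, hπ⟩ := Algebra.FiniteType.iff_quotient_mvPolynomial''.1 (inferInstance : Algebra.FiniteType R Q)
  let φ : Q →ₐ[R] B := ρ.restrictScalars R
  have hQ : DRing.IsPseudoCoherentModule' (MvPolynomial (Fin n) R) Q :=
    pcModule_of_free (MvPolynomial (Fin n) R) Q
  obtain ⟨e₁⟩ := nonempty_restrictD_comp (algebraMap (MvPolynomial (Fin n) R) Q) ρ.toRingHom
    (algebraMap (MvPolynomial (Fin n) R) B) ρ.comp_algebraMap.symm K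
  obtain ⟨e₂⟩ := nonempty_restrictD_comp α.toRingHom (algebraMap A B)
    (algebraMap (MvPolynomial (Fin n) R) B) rfl K
  rw [relPC_iff (φ.comp π) (hρ.comp hπ) K m, relPC_iff α hα _ m,
    ← pc_restrict_comp_iff π hπ φ (φ.comp π) rfl m K]
  exact (((Groth.Agent.S6940.result hQ _ m).1).trans (pc_congr e₁.symm m)).trans (pc_congr e₂ m)

/-- Towers with a relatively pseudo-coherent bottom. -/
theorem relPC_tower {B : Type u} [CommRing B] [Algebra A B] [Algebra R B] [IsScalarTower R A B]
    [Algebra.FiniteType R A] [Algebra.FiniteType A B] (hA : DerCA.IsRelPseudoCoherentModuleAll R A A)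
    (K : Dual.D B) (m : ℤ) :
    DerCA.IsRelPseudoCoherent A B m K ↔ DerCA.IsRelPseudoCoherent R B m K := by
  obtain ⟨n, α, hα⟩ := exists_presentation R A
  obtain ⟨k, β, hβ⟩ := exists_presentation A B
  have hp : letI := α.toRingHom.toAlgebra; DRing.IsPseudoCoherentModule' (MvPolynomial (Fin n) R) A :=
    DRingKProj.pseudoCoherent'_of_forall fun j => (relModule_iff α hα j A).1 (hA j)
  let μ := MvPolynomial.mapAlgHom (σ := Fin k) α
  let χ : MvPolynomial (Fin k) (MvPolynomial (Fin n) R) →ₐ[R] B := (β.restrictScalars R).comp μ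
  obtain ⟨N, π, hπ⟩ := Algebra.FiniteType.iff_quotient_mvPolynomial''.1
    (inferInstance : Algebra.FiniteType R (MvPolynomial (Fin k) (MvPolynomial (Fin n) R)))
  have hμ : Function.Surjective μ := MvPolynomial.map_surjective α.toRingHom hα
  obtain ⟨e⟩ := nonempty_restrictD_comp μ.toRingHom (β : MvPolynomial (Fin k) A →+* B) (χ : _ →+* B) rfl K
  rw [relPC_iff β hβ K m, relPC_iff (χ.comp π) ((hβ.comp hμ).comp hπ) K m,
    ← pc_restrict_comp_iff π hπ χ (χ.comp π) rfl m K]
  exact (DRingTorAmp.isPseudoCoherent_restrict_iff μ.toRingHom (PCHom.pc_mvPolynomial A α hp) m _).trans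
    (pc_congr e.symm m)

/-- Pseudo-coherent maps: nothing relative is left. -/
theorem relPC_iff_pc (hRA : MoreMor.IsPseudoCoherentHom R A) (m : ℤ) (K : Dual.D A) :
    DerCA.IsRelPseudoCoherent R A m K ↔ DRing.IsPseudoCoherent A m K := by
  obtain ⟨n, α, hα, h⟩ := hRA
  exact (relPC_iff α hα K m).trans
    (DRingTorAmp.isPseudoCoherent_restrict_iff α.toRingHom h m K).symm

end Groth.Agent.DerCALib
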